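import Mathlib.Algebra.MonoidAlgebra.Basic
import Mathlib.RingTheory.Ideal.Maps
import Mathlib.RingTheory.Ideal.Operations
import Mathlib.RingTheory.Nilpotent.Lemmas
import Mathlib.Tactic

/-!
# Subalgebras of a monoid algebra cut out by conditions on coefficients
-/

set_option autoImplicit false

universe u

noncomputable section

namespace Groth.Agent.DiagRigid21

open MonoidAlgebra

variable {K : Type u} [CommRing K] {N : Type} [CommGroup N]

/-- Weights on the monoid, multiplicative for ideal products. -/
structure Wt (K : Type u) [CommRing K] (N : Type) [CommGroup N] where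
  w : N → Ideal K
  w_one : w 1 = ⊤
  w_mul : ∀ p q, w p * w q ≤ w (p * q)

/-- The elements whose coefficients respect the weights. -/
def Wt.sub (W : Wt K N) : Subalgebra K (MonoidAlgebra K N) where
  carrier := {a | ∀ n, a.coeff n ∈ W.w n}
  add_mem' {a b} ha hb n := by
    rw [coeff_add, Finsupp.add_apply]
    exact (W.w n).add_mem (ha n) (hb n)
  mul_mem' {a b} ha hb n := by
    classical
    rw [coeff_mul]
    refine Ideal.sum_mem _ fun p _ => Ideal.sum_mem _ fun q _ => ?_
    show (if p * q = n then a.coeff p * b.coeff q else 0) ∈ W.w n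
    split_ifs with h
    · exact h ▸ W.w_mul p q (Ideal.mul_mem_mul (ha p) (hb q))
    · exact Ideal.zero_mem _
  algebraMap_mem' r n := by
    classical
    rw [MonoidAlgebra.coe_algebraMap, Function.comp_apply, coeff_single, Finsupp.single_apply]
    split_ifs with h
    · exact h ▸ W.w_one ▸ Submodule.mem_top
    · exact Ideal.zero_mem _

theorem Wt.mem_sub {W : Wt K N} {a : MonoidAlgebra K N} : a ∈ W.sub ↔ ∀ n, a.coeff n ∈ W.w n := Iff.rfl

/-- The augmentation. -/
def aug (K : Type u) [CommRing K] (N : Type) [CommGroup N] : MonoidAlgebra K N →ₐ[K] K :=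
  MonoidAlgebra.lift K K N 1

theorem aug_single (n : N) (r : K) : aug K N (single n r) = r := by
  simp [aug, MonoidAlgebra.lift_single]

theorem aug_eq_sum (a : MonoidAlgebra K N) : aug K N a = a.coeff.sum fun _ r => r := by
  conv_lhs => rw [← a.sum_coeff_single]
  rw [map_finsuppSum]
  exact Finsupp.sum_congr fun n _ => aug_single n _

theorem mem_map_algebraMap_iff {J : Ideal K} {a : MonoidAlgebra K N} :
    a ∈ J.map (algebraMap K (MonoidAlgebra K N)) ↔ ∀ n, a.coeff n ∈ J := by
  constructor
  · intro h
    induction h using Submodule.span_induction with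
    | mem x hx =>
      obtain ⟨r, hr, rfl⟩ := hx
      intro n
      classical
      rw [MonoidAlgebra.coe_algebraMap, Function.comp_apply, coeff_single, Finsupp.single_apply]
      split_ifs
      exacts [hr, J.zero_mem]
    | zero => intro n; simp
    | add x y _ _ hx hy => intro n; rw [coeff_add, Finsupp.add_apply]; exact J.add_mem (hx n) (hy n)
    | smul c x _ hx =>
      intro n
      classical
      rw [smul_eq_mul, coeff_mul]
      refine Ideal.sum_mem _ fun p _ => Ideal.sum_mem _ fun q _ => ?_
      show (if p * q = n then c.coeff p * x.coeff q else 0) ∈ J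
      split_ifs
      exacts [J.mul_mem_left _ (hx q), J.zero_mem]
  · intro h
    rw [← a.sum_coeff_single]
    refine Submodule.sum_mem _ fun n _ => ?_
    have e : single n (a.coeff n) = algebraMap K (MonoidAlgebra K N) (a.coeff n) * single n 1 := by
      rw [MonoidAlgebra.coe_algebraMap, Function.comp_apply, single_mul_single, one_mul, mul_one]
      rfl
    show single n (a.coeff n) ∈ _
    rw [e]
    exact Ideal.mul_mem_right _ _ (Ideal.mem_map_of_mem _ (h n))

/-- The kernel of the augmentation on a subalgebra with small weights is nilpotent. -/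
theorem isNilpotent_of_aug_eq_zero (W : Wt K N) {J : Ideal K} (hJ : IsNilpotent J)
    (hW : ∀ n, n ≠ 1 → W.w n ≤ J) {a : MonoidAlgebra K N} (ha : a ∈ W.sub) (h : aug K N a = 0) :
    IsNilpotent a := by
  classical
  have h1 : a.coeff 1 ∈ J := by
    rw [aug_eq_sum, Finsupp.sum] at h
    by_cases hs : 1 ∈ a.coeff.support
    · rw [← Finset.add_sum_erase _ _ hs] at h
      rw [eq_neg_of_add_eq_zero_left h]
      exact J.neg_mem (Ideal.sum_mem _ fun n hn => hW n (Finset.ne_of_mem_erase hn) (ha n))
    · rw [Finsupp.notMem_support_iff.1 hs]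
      exact J.zero_mem
  have hmem : a ∈ J.map (algebraMap K (MonoidAlgebra K N)) := mem_map_algebraMap_iff.2 fun n => by
    by_cases hn : n = 1
    · exact hn ▸ h1
    · exact hW n hn (ha n)
  obtain ⟨e, he⟩ := hJ
  refine ⟨e, ?_⟩
  have := Ideal.pow_mem_pow hmem e
  rw [← Ideal.map_pow, he, Ideal.zero_eq_bot, Ideal.map_bot, Ideal.mem_bot] at this
  exact this

open Classical in
/-- Weights `J` off the unit. -/
def wt₁ (J : Ideal K) (N : Type) [CommGroup N] : Wt K N :=
  { w := fun n => if n = 1 then ⊤ else J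
    w_one := if_pos rfl
    w_mul := fun p q => by
      by_cases hp : p = 1
      · subst hp; rw [one_mul, if_pos rfl, Ideal.top_mul]
      by_cases hq : q = 1
      · subst hq; rw [mul_one, if_pos rfl, Ideal.mul_top]
      rw [if_neg hp, if_neg hq]
      split_ifs
      exacts [le_top, Ideal.mul_le_left] }

theorem wt₁_le (J : Ideal K) {n : N} (hn : n ≠ 1) : (wt₁ J N).w n ≤ J := by simp [wt₁, hn]

open Classical in
/-- Weights on a product: `J` on the axes, `J²` off them. -/
def wt₂ (J : Ideal K) (N : Type) [CommGroup N] : Wt K (N × N) :=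
  { w := fun n => if n = 1 then ⊤ else if n.1 = 1 ∨ n.2 = 1 then J else J * J
    w_one := if_pos rfl
    w_mul := fun p q => by
      by_cases hp : p = 1
      · subst hp; rw [one_mul, if_pos rfl, Ideal.top_mul]
      by_cases hq : q = 1
      · subst hq; rw [mul_one, if_pos rfl, Ideal.mul_top]
      rw [if_neg hp, if_neg hq]
      have hp' : (if p.1 = 1 ∨ p.2 = 1 then J else J * J) ≤ J := by
        split_ifs
        exacts [le_rfl, Ideal.mul_le_left]
      have hq' : (if q.1 = 1 ∨ q.2 = 1 then J else J * J) ≤ J := by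
        split_ifs
        exacts [le_rfl, Ideal.mul_le_left]
      refine (Ideal.mul_mono hp' hq').trans ?_
      split_ifs
      exacts [le_top, Ideal.mul_le_left, le_rfl] }

theorem wt₂_le (J : Ideal K) {n : N × N} (hn : n ≠ 1) : (wt₂ J N).w n ≤ J := by
  simp only [wt₂, hn, if_false]
  split_ifs
  exacts [le_rfl, Ideal.mul_le_left]

theorem wt₂_off (J : Ideal K) {m : N} (hm : m ≠ 1) : (wt₂ J N).w (m, m) = J * J := by
  simp [wt₂, hm, Prod.ext_iff]

/-- The first axis, second axis and diagonal. -/
def inlA : MonoidAlgebra K N →ₐ[K] MonoidAlgebra K (N × N) := mapDomainAlgHom K K (MonoidHom.inl N N)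
/-- The second axis. -/
def inrA : MonoidAlgebra K N →ₐ[K] MonoidAlgebra K (N × N) := mapDomainAlgHom K K (MonoidHom.inr N N)
/-- The diagonal. -/
def diagA : MonoidAlgebra K N →ₐ[K] MonoidAlgebra K (N × N) :=
  mapDomainAlgHom K K ((MonoidHom.id N).prod (MonoidHom.id N))

theorem coeff_mapDomain_mem {N' : Type} [CommGroup N'] (φ : N →* N') {W : Wt K N} {W' : Wt K N'}
    (h : ∀ n, W.w n ≤ W'.w (φ n)) {a : MonoidAlgebra K N} (ha : a ∈ W.sub) :
    mapDomainAlgHom K K φ a ∈ W'.sub := by
  rw [← a.sum_coeff_single, map_finsuppSum]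
  refine Subalgebra.sum_mem _ fun n _ => ?_
  show mapDomainAlgHom K K φ (single n (a.coeff n)) ∈ W'.sub
  intro n'
  classical
  rw [show mapDomainAlgHom K K φ (single n (a.coeff n)) = single (φ n) (a.coeff n) from by simp,
    coeff_single, Finsupp.single_apply]
  split_ifs with e
  exacts [e ▸ h n (ha n), Ideal.zero_mem _]

theorem inlA_mem {J : Ideal K} {a : MonoidAlgebra K N} (ha : a ∈ (wt₁ J N).sub) :
    inlA a ∈ (wt₂ J N).sub :=
  coeff_mapDomain_mem _ (fun n => by
    by_cases hn : n = 1
    · subst hn; simp [wt₁, wt₂]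
    · simp [wt₁, wt₂, hn, Prod.ext_iff]) ha

theorem inrA_mem {J : Ideal K} {a : MonoidAlgebra K N} (ha : a ∈ (wt₁ J N).sub) :
    inrA a ∈ (wt₂ J N).sub :=
  coeff_mapDomain_mem _ (fun n => by
    by_cases hn : n = 1
    · subst hn; simp [wt₁, wt₂]
    · simp [wt₁, wt₂, hn, Prod.ext_iff]) ha

theorem coeff_diagA (a : MonoidAlgebra K N) (m : N) : (diagA a).coeff (m, m) = a.coeff m := by
  classical
  induction a using MonoidAlgebra.induction_linear with
  | zero => simp
  | add x y hx hy => rw [map_add, coeff_add, coeff_add, Finsupp.add_apply, Finsupp.add_apply, hx, hy]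
  | single n r => simp [diagA, coeff_single, Finsupp.single_apply]

theorem mem_sub_sq {J : Ideal K} {a : MonoidAlgebra K N} (h : diagA a ∈ (wt₂ J N).sub) :
    a ∈ (wt₁ (J * J) N).sub := by
  intro m
  by_cases hm : m = 1
  · simp [wt₁, hm]
  · have := h (m, m)
    rw [coeff_diagA, wt₂_off J hm] at this
    simpa [wt₁, hm] using this

theorem eq_algebraMap_of_mem_bot {a : MonoidAlgebra K N} (h : a ∈ (wt₁ (⊥ : Ideal K) N).sub) :
    a = algebraMap K (MonoidAlgebra K N) (a.coeff 1) := by
  classical
  ext n
  rw [MonoidAlgebra.coe_algebraMap, Function.comp_apply, coeff_single, Finsupp.single_apply]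
  by_cases hn : n = 1
  · subst hn
    rw [if_pos rfl]
    rfl
  · rw [if_neg (Ne.symm hn)]
    exact Ideal.mem_bot.1 (wt₁_le ⊥ hn (h n))

end Groth.Agent.DiagRigid21
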