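import Groth.Agent.Lib.DiagRigid21.Coeff
import Groth.Agent.Lib.LieS.Diag
import Groth.Agent.Lib.DiagGL.Chars
import Mathlib.RingTheory.TensorProduct.MonoidAlgebra

/-!
# Rigidity of homomorphisms out of diagonalisable groups
-/

set_option autoImplicit false
set_option backward.isDefEq.respectTransparency false

universe u

open CategoryTheory MonoidalCategory CartesianMonoidalCategory MonObj AlgebraicGeometry TopologicalSpace Limits
open scoped TensorProduct

noncomputable section

namespace Groth.Agent.DiagRigid21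

variable {R : Type u} [CommRing R]

/-- `Spec C` over `Spec R`. -/
abbrev Sp (R : Type u) [CommRing R] (C : Type u) [CommRing C] [Algebra R C] : Over (Spec (CommRingCat.of R)) :=
  (Spec (CommRingCat.of C)).asOver (Spec (CommRingCat.of R))

/-- `Spec` of an algebra map. -/
abbrev spMap {B C : Type u} [CommRing B] [CommRing C] [Algebra R B] [Algebra R C] (g : B →ₐ[R] C) :
    Sp R C ⟶ Sp R B :=
  Over.homMk (Spec.map (CommRingCat.ofHom g.toRingHom)) (by
    show Spec.map _ ≫ Spec.map (CommRingCat.ofHom (algebraMap R B)) = Spec.map (CommRingCat.ofHom (algebraMap R C))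
    rw [← Spec.map_comp, ← CommRingCat.ofHom_comp]
    exact congrArg (fun φ => Spec.map (CommRingCat.ofHom φ)) g.comp_algebraMap)

theorem spMap_comp {A B C : Type u} [CommRing A] [CommRing B] [CommRing C] [Algebra R A] [Algebra R B] [Algebra R C]
    (g : A →ₐ[R] B) (h : B →ₐ[R] C) : spMap h ≫ spMap g = spMap (h.comp g) :=
  Over.OverMorphism.ext (show Spec.map _ ≫ Spec.map _ = Spec.map _ by
    rw [← Spec.map_comp, ← CommRingCat.ofHom_comp]; rfl)

theorem sp_trans {A B C D S : Type u} [CommRing A] [CommRing B] [CommRing C] [CommRing D] [CommRing S]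
    [Algebra R A] [Algebra R B] [Algebra R C] [Algebra R D] [Algebra R S] {X : Over (Spec (CommRingCat.of R))}
    (v : S →ₐ[R] D) (a : B →ₐ[R] S) (θ : C →ₐ[R] D) (φ : B →ₐ[R] C) (e : A →ₐ[R] C)
    (j : Sp R B ⟶ X) (g : Sp R A ⟶ X) (hva : v.comp a = θ.comp φ) (hφ : spMap φ ≫ j = spMap e ≫ g) :
    spMap v ≫ spMap a ≫ j = spMap (θ.comp e) ≫ g := by
  rw [← Category.assoc, spMap_comp, hva, ← spMap_comp φ θ, Category.assoc, hφ, ← Category.assoc, spMap_comp]

/-- A section which becomes the unit after a surjection on spectra lands where the unit does. -/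
theorem range_left_subset {C D : Type u} [CommRing C] [CommRing D] [Algebra R C] [Algebra R D]
    {X : Over (Spec (CommRingCat.of R))} [GrpObj X] {U : X.left.Opens} (ε : C →ₐ[R] D)
    (hs : Function.Surjective (PrimeSpectrum.comap ε.toRingHom)) (t : Sp R C ⟶ X) (ht : spMap ε ≫ t = 1)
    (he : Set.range (Spec.map (CommRingCat.ofHom (algebraMap R D)) ≫ (η[X]).left) ⊆ U) :
    Set.range t.left ⊆ U := by
  rintro _ ⟨P, rfl⟩
  obtain ⟨Q, rfl⟩ := hs P
  have e : ((spMap ε ≫ t).left : _ ⟶ _) Q = ((1 : Sp R D ⟶ X).left : _ ⟶ _) Q := by rw [ht]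
  exact Set.mem_of_eq_of_mem e (he ⟨Q, rfl⟩)

/-- Morphisms out of an affine scheme agree if they agree over a cover of the base by localisations. -/
theorem ext_of_span {A : Type u} [CommRing A] [Algebra R A] {Y : Scheme.{u}} (g₁ g₂ : Spec (CommRingCat.of A) ⟶ Y)
    {J : Type u} (r : J → R) (hr : Ideal.span (Set.range r) = ⊤)
    (h : ∀ i, Spec.map (CommRingCat.ofHom
        (Algebra.TensorProduct.includeLeft : A →ₐ[R] A ⊗[R] Localization.Away (r i)).toRingHom) ≫ g₁ =
      Spec.map (CommRingCat.ofHom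
        (Algebra.TensorProduct.includeLeft : A →ₐ[R] A ⊗[R] Localization.Away (r i)).toRingHom) ≫ g₂) :
    g₁ = g₂ := by
  let str : Spec (CommRingCat.of A) ⟶ Spec (CommRingCat.of R) := Spec.map (CommRingCat.ofHom (algebraMap R A))
  let 𝒰 : (Spec (CommRingCat.of R)).OpenCover := (Scheme.affineOpenCoverOfSpanRangeEqTop r hr).openCover
  refine Scheme.Cover.hom_ext (Precoverage.ZeroHypercover.pullback₁ str 𝒰) _ _ fun i => ?_
  show pullback.fst str (Spec.map (CommRingCat.ofHom (algebraMap R (Localization.Away (r i))))) ≫ g₁ =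
    pullback.fst str (Spec.map (CommRingCat.ofHom (algebraMap R (Localization.Away (r i))))) ≫ g₂
  have hpb : (pullbackSpecIso R A (Localization.Away (r i))).inv ≫
      pullback.fst str (Spec.map (CommRingCat.ofHom (algebraMap R (Localization.Away (r i))))) =
      Spec.map (CommRingCat.ofHom
        (Algebra.TensorProduct.includeLeft : A →ₐ[R] A ⊗[R] Localization.Away (r i)).toRingHom) :=
    pullbackSpecIso_inv_fst _ _ _
  rw [← cancel_epi (pullbackSpecIso R A (Localization.Away (r i))).inv, ← Category.assoc, hpb,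
    ← Category.assoc, hpb]
  exact h i

variable {M : Type} [AddCommGroup M]

theorem val_spMap {C : Type u} [CommRing C] [Algebra R C] (g : MonoidAlgebra R (Multiplicative M) →ₐ[R] C) (m : M) :
    LieSL.val (spMap g : Sp R C ⟶ Red.diag R M) m = g (MonoidAlgebra.single (Multiplicative.ofAdd m) 1) := by
  show (Spec.preimage (Spec.map (CommRingCat.ofHom g.toRingHom))).hom _ = _
  rw [Spec.preimage_map]
  rfl

section local_

variable (R' : Type u) [CommRing R'] [Algebra R R']

/-- The base extension of the coordinate ring. -/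
abbrev ext : MonoidAlgebra R (Multiplicative M) →ₐ[R] MonoidAlgebra R' (Multiplicative M) :=
  MonoidAlgebra.mapAlgHom (Multiplicative M) (Algebra.ofId R R')

theorem ext_single (m : Multiplicative M) :
    ext R' (MonoidAlgebra.single m (1 : R)) = MonoidAlgebra.single m (1 : R') := by
  simp [ext]

theorem inl_mul_inr :
    (spMap (((inlA (K := R') (N := Multiplicative M)).restrictScalars R).comp (ext (M := M) R')) : Sp R _ ⟶ Red.diag R M) *
      spMap (((inrA (K := R') (N := Multiplicative M)).restrictScalars R).comp (ext (M := M) R')) =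
      spMap (((diagA (K := R') (N := Multiplicative M)).restrictScalars R).comp (ext (M := M) R')) := by
  refine LieSL.val_ext fun m => ?_
  rw [LieSL.val_mul, val_spMap, val_spMap, val_spMap]
  simp [inlA, inrA, diagA, MonoidAlgebra.single_mul_single]

theorem aug_comp_ext_eq_one :
    (spMap (((aug R' (Multiplicative M)).restrictScalars R).comp (ext (M := M) R')) : Sp R R' ⟶ Red.diag R M) = 1 := by
  refine LieSL.val_ext fun m => ?_
  rw [val_spMap, LieSL.val_one, AlgHom.comp_apply, ext_single]
  exact aug_single _ _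

variable {X : Over (Spec (CommRingCat.of R))} [GrpObj X] (f : Red.diag R M ⟶ X) [IsMonHom f]

/-- The diagonal of the coordinates of `f` lies in every subalgebra through which both axes factor and on
which the augmentation has nilpotent kernel. -/
theorem diag_mem {B : Type u} [CommRing B] [Algebra R B] {j : Sp R B ⟶ X} {U : X.left.Opens}
    (hlift : ∀ {C : Type u} [CommRing C] [Algebra R C] (t : Sp R C ⟶ X), Set.range t.left ⊆ U →
      ∃ φ : B →ₐ[R] C, spMap φ ≫ j = t)
    (hinj : ∀ {C : Type u} [CommRing C] [Algebra R C] (φ ψ : B →ₐ[R] C), spMap φ ≫ j = spMap ψ ≫ j → φ = ψ)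
    (φ : B →ₐ[R] MonoidAlgebra R' (Multiplicative M)) (hφ : spMap φ ≫ j = spMap (ext (M := M) R') ≫ f)
    (ψ₀ : B →ₐ[R] R') (hψ₀ : spMap ψ₀ ≫ j = 1)
    (haug : ((aug R' (Multiplicative M)).restrictScalars R).comp φ = ψ₀)
    (he : Set.range (Spec.map (CommRingCat.ofHom (algebraMap R R')) ≫ (η[X]).left) ⊆ U)
    (S : Subalgebra R (MonoidAlgebra R' (Multiplicative M × Multiplicative M)))
    (h₁ : ∀ b, inlA (φ b) ∈ S) (h₂ : ∀ b, inrA (φ b) ∈ S)
    (halg : ∀ r, algebraMap R' (MonoidAlgebra R' (Multiplicative M × Multiplicative M)) r ∈ S)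
    (hnil : ∀ a ∈ S, aug R' (Multiplicative M × Multiplicative M) a = 0 → IsNilpotent a) (b : B) :
    diagA (φ b) ∈ S := by
  let a₁ : B →ₐ[R] S :=
    (((inlA (K := R') (N := Multiplicative M)).restrictScalars R).comp φ).codRestrict S h₁
  let a₂ : B →ₐ[R] S :=
    (((inrA (K := R') (N := Multiplicative M)).restrictScalars R).comp φ).codRestrict S h₂
  let ε : S →ₐ[R] R' := ((aug R' (Multiplicative M × Multiplicative M)).restrictScalars R).comp S.val
  have hεsurj : Function.Surjective ε := fun r =>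
    ⟨⟨algebraMap R' _ r, halg r⟩,
      (aug R' (Multiplicative M × Multiplicative M)).commutes r⟩
  have hεa : ∀ a : B →ₐ[R] S, ε.comp a = ψ₀ → spMap ε ≫ spMap a ≫ j = 1 := fun a e => by
    rw [← Category.assoc, spMap_comp, e, hψ₀]
  have hcomp₁ : ε.comp a₁ = ψ₀ := by
    rw [← haug]
    refine AlgHom.ext fun b => ?_
    show aug R' _ (inlA (φ b)) = aug R' _ (φ b)
    induction φ b using MonoidAlgebra.induction_linear with
    | zero => simp
    | add x y hx hy => simp [map_add, hx, hy]
    | single n r => simp [inlA, aug_single]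
  have hcomp₂ : ε.comp a₂ = ψ₀ := by
    rw [← haug]
    refine AlgHom.ext fun b => ?_
    show aug R' _ (inrA (φ b)) = aug R' _ (φ b)
    induction φ b using MonoidAlgebra.induction_linear with
    | zero => simp
    | add x y hx hy => simp [map_add, hx, hy]
    | single n r => simp [inrA, aug_single]
  have hεprod : spMap ε ≫ ((spMap a₁ ≫ j) * (spMap a₂ ≫ j)) = 1 := by
    rw [MonObj.comp_mul, hεa a₁ hcomp₁, hεa a₂ hcomp₂, _root_.one_mul (1 : Sp R R' ⟶ X)]
  have hsurj : Function.Surjective (PrimeSpectrum.comap ε.toRingHom) := fun P => by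
    suffices P ∈ Set.range (PrimeSpectrum.comap ε.toRingHom) from this
    rw [range_comap_of_surjective _ _ hεsurj]
    intro a ha
    obtain ⟨e, he'⟩ := hnil _ a.2 ha
    have : (a : S) ^ e = 0 := Subtype.ext (by rw [SubmonoidClass.coe_pow]; exact he')
    exact P.2.mem_of_pow_mem e (this ▸ P.asIdeal.zero_mem)
  obtain ⟨ψ, hψ⟩ := hlift ((spMap a₁ ≫ j) * (spMap a₂ ≫ j)) (range_left_subset ε hsurj _ hεprod he)
  have key : ((diagA (K := R') (N := Multiplicative M)).restrictScalars R).comp φ = S.val.comp ψ := by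
    refine hinj _ _ ?_
    have e₁ : spMap S.val ≫ spMap a₁ ≫ j =
        spMap (((inlA (K := R') (N := Multiplicative M)).restrictScalars R).comp (ext (M := M) R')) ≫ f :=
      sp_trans S.val a₁ ((inlA (K := R') (N := Multiplicative M)).restrictScalars R) φ (ext (M := M) R') j f (AlgHom.ext fun _ => rfl) hφ
    have e₂ : spMap S.val ≫ spMap a₂ ≫ j =
        spMap (((inrA (K := R') (N := Multiplicative M)).restrictScalars R).comp (ext (M := M) R')) ≫ f :=
      sp_trans S.val a₂ ((inrA (K := R') (N := Multiplicative M)).restrictScalars R) φ (ext (M := M) R') j f (AlgHom.ext fun _ => rfl) hφ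
    rw [← spMap_comp, Category.assoc, hφ, ← spMap_comp, Category.assoc, hψ, MonObj.comp_mul, e₁, e₂,
      ← MonObj.mul_comp, inl_mul_inr, ← Category.assoc, spMap_comp]
  rw [show diagA (φ b) = (ψ b : MonoidAlgebra R' (Multiplicative M × Multiplicative M)) from
    DFunLike.congr_fun key b]
  exact (ψ b).2

/-- One step of the induction: coefficients in `K` lie in `K²`. -/
theorem step_sq {B : Type u} [CommRing B] [Algebra R B] {j : Sp R B ⟶ X} {U : X.left.Opens}
    (hlift : ∀ {C : Type u} [CommRing C] [Algebra R C] (t : Sp R C ⟶ X), Set.range t.left ⊆ U →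
      ∃ φ : B →ₐ[R] C, spMap φ ≫ j = t)
    (hinj : ∀ {C : Type u} [CommRing C] [Algebra R C] (φ ψ : B →ₐ[R] C), spMap φ ≫ j = spMap ψ ≫ j → φ = ψ)
    (φ : B →ₐ[R] MonoidAlgebra R' (Multiplicative M)) (hφ : spMap φ ≫ j = spMap (ext (M := M) R') ≫ f)
    (ψ₀ : B →ₐ[R] R') (hψ₀ : spMap ψ₀ ≫ j = 1)
    (haug : ((aug R' (Multiplicative M)).restrictScalars R).comp φ = ψ₀)
    (he : Set.range (Spec.map (CommRingCat.ofHom (algebraMap R R')) ≫ (η[X]).left) ⊆ U)
    (K : Ideal R') (hK : IsNilpotent K) (hφK : ∀ b, φ b ∈ (wt₁ K (Multiplicative M)).sub) (b : B) :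
    φ b ∈ (wt₁ (K * K) (Multiplicative M)).sub :=
  mem_sub_sq (diag_mem R' f hlift hinj φ hφ ψ₀ hψ₀ haug he ((wt₂ K (Multiplicative M)).sub.restrictScalars R)
    (fun b => inlA_mem (hφK b)) (fun b => inrA_mem (hφK b)) (fun r => Subalgebra.algebraMap_mem _ r)
    (fun _ ha h => isNilpotent_of_aug_eq_zero _ hK (fun _ hn => wt₂_le K hn) ha h) b)

/-- Over a base change on which the unit lands in an affine open, `f` is the unit. -/
theorem spMap_ext_comp_eq_one (I : Ideal R) (hI : IsNilpotent I)
    (h : ∀ (C : Type u) [CommRing C] [Algebra R C] (t : Sp R C ⟶ Red.diag R M),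
      I.map (algebraMap R C) = ⊥ → t ≫ f = 1)
    {U : X.left.Opens} (hU : IsAffineOpen U)
    (he : Set.range (Spec.map (CommRingCat.ofHom (algebraMap R R')) ≫ (η[X]).left) ⊆ U) :
    spMap (ext (M := M) R') ≫ f = 1 := by
  letI : Algebra R Γ(X.left, U) := (Spec.preimage (hU.fromSpec ≫ X.hom)).hom.toAlgebra
  let j : Sp R Γ(X.left, U) ⟶ X := Over.homMk hU.fromSpec
    (Spec.map_preimage (hU.fromSpec ≫ X.hom)).symm
  haveI : IsOpenImmersion j.left := inferInstanceAs (IsOpenImmersion hU.fromSpec)
  have hlift : ∀ {C : Type u} [CommRing C] [Algebra R C] (t : Sp R C ⟶ X),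
      Set.range t.left ⊆ U → ∃ φ : Γ(X.left, U) →ₐ[R] C, spMap φ ≫ j = t := by
    intro C _ _ t ht
    have hr : Set.range t.left ⊆ Set.range hU.fromSpec := by rwa [hU.range_fromSpec]
    let l := IsOpenImmersion.lift hU.fromSpec t.left hr
    have hl : l ≫ hU.fromSpec = t.left := IsOpenImmersion.lift_fac _ _ _
    refine ⟨⟨(Spec.preimage l).hom, fun r => ?_⟩, Over.OverMorphism.ext ?_⟩
    · have e : CommRingCat.ofHom (algebraMap R Γ(X.left, U)) ≫ Spec.preimage l =
          CommRingCat.ofHom (algebraMap R C) := by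
        apply Spec.map_injective
        rw [Spec.map_comp, Spec.map_preimage]
        exact ((l ≫= Over.w j).symm.trans (by rw [← Category.assoc]; show (l ≫ hU.fromSpec) ≫ X.hom = _; rw [hl])).trans
          (Over.w t)
      exact congr($e r)
    · show Spec.map (Spec.preimage l) ≫ hU.fromSpec = t.left
      rw [Spec.map_preimage, hl]
  have hinj : ∀ {C : Type u} [CommRing C] [Algebra R C] (φ ψ : Γ(X.left, U) →ₐ[R] C),
      spMap φ ≫ j = spMap ψ ≫ j → φ = ψ := by
    intro C _ _ φ ψ e
    have e' : Spec.map (CommRingCat.ofHom φ.toRingHom) ≫ hU.fromSpec =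
        Spec.map (CommRingCat.ofHom ψ.toRingHom) ≫ hU.fromSpec := congrArg (fun t => t.left) e
    exact AlgHom.coe_ringHom_injective
      (congrArg (fun g => g.hom) (Spec.map_injective ((cancel_mono hU.fromSpec).1 e')))
  -- the unit over `R'`
  obtain ⟨ψ₀, hψ₀⟩ := hlift (1 : Sp R R' ⟶ X) he
  -- the reduction
  let J : Ideal R' := I.map (algebraMap R R')
  have hJ : IsNilpotent J := by
    obtain ⟨e, hIe⟩ := hI
    exact ⟨e, by rw [← Ideal.map_pow, hIe, Ideal.zero_eq_bot, Ideal.map_bot, Ideal.zero_eq_bot]⟩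
  let JA : Ideal (MonoidAlgebra R' (Multiplicative M)) := J.map (algebraMap R' _)
  let mk : MonoidAlgebra R' (Multiplicative M) →ₐ[R] MonoidAlgebra R' (Multiplicative M) ⧸ JA :=
    Ideal.Quotient.mkₐ R JA
  have hmk : spMap mk ≫ spMap (ext (M := M) R') ≫ f = 1 := by
    rw [← Category.assoc]
    refine h _ _ ?_
    rw [eq_bot_iff, Ideal.map_le_iff_le_comap]
    intro r hr
    show Ideal.Quotient.mk JA (algebraMap R (MonoidAlgebra R' (Multiplicative M)) r) = 0
    rw [Ideal.Quotient.eq_zero_iff_mem, IsScalarTower.algebraMap_apply R R']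
    exact Ideal.mem_map_of_mem _ (Ideal.mem_map_of_mem _ hr)
  have hmksurj : Function.Surjective (PrimeSpectrum.comap mk.toRingHom) := by
    intro P
    obtain ⟨e, hJe⟩ := hJ
    have hle : JA ≤ P.asIdeal := fun a ha => P.2.mem_of_pow_mem e (by
      have := Ideal.pow_mem_pow ha e
      rw [← Ideal.map_pow, hJe, Ideal.zero_eq_bot, Ideal.map_bot, Ideal.mem_bot] at this
      rw [this]; exact P.asIdeal.zero_mem)
    have : P ∈ Set.range (PrimeSpectrum.comap (Ideal.Quotient.mk JA)) := by
      rw [range_comap_of_surjective _ _ Ideal.Quotient.mk_surjective, Ideal.mk_ker]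
      exact hle
    exact this
  -- coordinates of `f`
  obtain ⟨φ, hφ⟩ := hlift (spMap (ext (M := M) R') ≫ f) (range_left_subset mk hmksurj _ hmk (by
    have hfac : CommRingCat.ofHom (algebraMap R (MonoidAlgebra R' (Multiplicative M) ⧸ JA)) =
        CommRingCat.ofHom (algebraMap R R') ≫ CommRingCat.ofHom (algebraMap R' _) := by
      rw [← CommRingCat.ofHom_comp, ← IsScalarTower.algebraMap_eq]
    rintro _ ⟨Q, rfl⟩
    rw [hfac, Spec.map_comp, Category.assoc]
    exact he ⟨_, rfl⟩))
  -- its augmentation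
  have haug : ((aug R' (Multiplicative M)).restrictScalars R).comp φ = ψ₀ := by
    refine hinj _ _ ?_
    rw [hψ₀, ← spMap_comp, Category.assoc, hφ, ← Category.assoc, spMap_comp, aug_comp_ext_eq_one, MonObj.one_comp]
  -- coefficients off the unit lie in `J`
  have h0 : ∀ b, φ b ∈ (wt₁ J (Multiplicative M)).sub := by
    have key : mk.comp φ = (mk.comp (IsScalarTower.toAlgHom R R' _)).comp ψ₀ := by
      refine hinj _ _ ?_
      rw [← spMap_comp, Category.assoc, hφ, hmk, ← spMap_comp, Category.assoc, hψ₀, MonObj.comp_one]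
    intro b n
    by_cases hn : n = 1
    · simp [wt₁, hn]
    have hb := Ideal.Quotient.eq.1 (DFunLike.congr_fun key b)
    have := mem_map_algebraMap_iff.1 hb n
    classical
    rw [MonoidAlgebra.coeff_sub, Finsupp.sub_apply] at this
    change _ - (algebraMap R' (MonoidAlgebra R' (Multiplicative M)) (ψ₀ b)).coeff n ∈ J at this
    rw [MonoidAlgebra.coe_algebraMap, Function.comp_apply, MonoidAlgebra.coeff_single,
      Finsupp.single_eq_of_ne hn, sub_zero] at this
    simpa [wt₁, hn] using this
  -- one step of the induction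
  have step := step_sq R' f hlift hinj φ hφ ψ₀ hψ₀ haug he
  have hbot : ∀ b, φ b ∈ (wt₁ (⊥ : Ideal R') (Multiplicative M)).sub := by
    obtain ⟨e, hJe⟩ := hJ
    have hpow : ∀ i, ∀ b, φ b ∈ (wt₁ (J ^ (2 ^ i)) (Multiplicative M)).sub := by
      intro i
      induction i with
      | zero => simpa using h0
      | succ i ih =>
        have := step _ ⟨e, by rw [← pow_mul, mul_comm, pow_mul, hJe]; exact zero_pow (by positivity)⟩ ih
        rwa [← pow_add, ← two_mul, ← pow_succ'] at this
    intro b
    have := hpow e b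
    rwa [pow_eq_zero_of_le (Nat.lt_two_pow_self).le hJe, Ideal.zero_eq_bot] at this
  have hfin : φ = (IsScalarTower.toAlgHom R R' (MonoidAlgebra R' (Multiplicative M))).comp ψ₀ := by
    refine AlgHom.ext fun b => ?_
    rw [← haug]
    conv_lhs => rw [eq_algebraMap_of_mem_bot (hbot b)]
    show _ = algebraMap R' _ (aug R' _ (φ b))
    conv_rhs => rw [eq_algebraMap_of_mem_bot (hbot b), AlgHom.commutes]
    rfl
  rw [← hφ, hfin, ← spMap_comp, Category.assoc, hψ₀, MonObj.comp_one]

end local_

theorem exists_ringHom_includeLeft (R' : Type u) [CommRing R'] [Algebra R R'] :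
    ∃ ψ : MonoidAlgebra R' (Multiplicative M) →ₐ[R] MonoidAlgebra R (Multiplicative M) ⊗[R] R',
      ψ.comp (ext (M := M) R') = Algebra.TensorProduct.includeLeft := by
  refine ⟨(Algebra.TensorProduct.comm R R' (MonoidAlgebra R (Multiplicative M))).toAlgHom.comp
    ((MonoidAlgebra.scalarTensorEquiv (M := Multiplicative M) R R').symm.toAlgHom.restrictScalars R), ?_⟩
  refine MonoidAlgebra.algHom_ext (fun m => ?_) (Subsingleton.elim _ _)
  show (Algebra.TensorProduct.comm R R' (MonoidAlgebra R (Multiplicative M)))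
    ((MonoidAlgebra.scalarTensorEquiv (M := Multiplicative M) R R').symm (ext R' (MonoidAlgebra.single m (1 : R)))) = _
  rw [ext_single, MonoidAlgebra.scalarTensorEquiv_symm_single, Algebra.TensorProduct.comm_tmul]
  rfl

/-- A homomorphism from a diagonalisable group which is trivial modulo a nilpotent ideal is trivial. -/
theorem eq_one {X : Over (Spec (CommRingCat.of R))} [GrpObj X] (f : Red.diag R M ⟶ X) [IsMonHom f]
    (I : Ideal R) (hI : IsNilpotent I)
    (h : ∀ (C : Type u) [CommRing C] [Algebra R C] (t : Sp R C ⟶ Red.diag R M),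
      I.map (algebraMap R C) = ⊥ → t ≫ f = 1) :
    f = 1 := by
  have hloc : ∀ x : PrimeSpectrum R, ∃ r : R, x ∈ PrimeSpectrum.basicOpen r ∧ ∃ U : X.left.Opens, IsAffineOpen U ∧
      Set.range (Spec.map (CommRingCat.ofHom (algebraMap R (Localization.Away r))) ≫ (η[X]).left) ⊆ U := by
    intro x
    let e : Spec (CommRingCat.of R) ⟶ X.left := (η[X]).left
    obtain ⟨U, hU, hxU, -⟩ := exists_isAffineOpen_mem_and_subset (show e x ∈ (⊤ : X.left.Opens) from trivial)
    obtain ⟨_, ⟨r, rfl⟩, hxr, hrU⟩ := PrimeSpectrum.isTopologicalBasis_basic_opens.exists_subset_of_mem_open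
      (u := (e ⁻¹ᵁ U).carrier) hxU (e ⁻¹ᵁ U).is_open'
    refine ⟨r, hxr, U, hU, ?_⟩
    rintro _ ⟨y, rfl⟩
    refine hrU ?_
    have hy : PrimeSpectrum.comap (algebraMap R (Localization.Away r)) y ∈
        Set.range (PrimeSpectrum.comap (algebraMap R (Localization.Away r))) := ⟨y, rfl⟩
    rw [PrimeSpectrum.localization_away_comap_range (Localization.Away r) r] at hy
    exact hy
  choose r hxr U hU he using hloc
  refine Over.OverMorphism.ext (ext_of_span _ _ (fun x : PrimeSpectrum R => r x) ?_ fun x => ?_)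
  · rw [← PrimeSpectrum.zeroLocus_empty_iff_eq_top, PrimeSpectrum.zeroLocus_span, Set.eq_empty_iff_forall_notMem]
    intro x hx
    exact hxr x (hx ⟨x, rfl⟩)
  obtain ⟨ψ, hψ⟩ := exists_ringHom_includeLeft (M := M) (Localization.Away (r x) : Type u) (R := R)
  have key : spMap (Algebra.TensorProduct.includeLeft :
      MonoidAlgebra R (Multiplicative M) →ₐ[R] MonoidAlgebra R (Multiplicative M) ⊗[R] Localization.Away (r x)) ≫ f =
      spMap (Algebra.TensorProduct.includeLeft :
      MonoidAlgebra R (Multiplicative M) →ₐ[R] MonoidAlgebra R (Multiplicative M) ⊗[R] Localization.Away (r x)) ≫ 1 := by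
    rw [← hψ, ← spMap_comp, Category.assoc,
      spMap_ext_comp_eq_one (Localization.Away (r x)) f I hI h (hU x) (he x), MonObj.comp_one, MonObj.comp_one]
  exact congrArg (fun t => t.left) key

end Groth.Agent.DiagRigid21
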